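import Cfsg.Agent.H752.Ext
import Cfsg.Agent.H747.Hyperfocal
import Cfsg.Agent.H757.Central
import Cfsg.Agent.H803.HypFactor
set_option linter.all false

/-!
# Inner systems of normal subgroups; normal subgroups of quasisimple systems (helper758)
-/

set_option autoImplicit false

namespace Cfsg.Agent.H758

open Cfsg Cfsg.FusionSystem Cfsg.Agent.H752

variable {Ω : Type*} [Group Ω] {S : Subgroup Ω} {p : ℕ}

theorem mp_inner_iff {Q P : Subgroup Ω} {f : Ω → Ω} :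
    Mp (innerFusionSystem Q) P f ↔ P ≤ Q ∧ ∃ g ∈ Q, ∀ x ∈ P, f x = g * x * g⁻¹ := by
  constructor
  · rintro ⟨φ, ⟨hP, g, hg, h⟩, hf⟩
    exact ⟨hP, g, hg, fun x hx => by rw [← hf x hx, h]⟩
  · rintro ⟨hP, g, hg, h⟩
    exact (mp_conj (innerFusionSystem Q) hP hg).congr h

/-- The inner system of a normal subgroup is a normal subsystem. -/
theorem inner_isNormalIn [Fact p.Prime] [Finite S] (hS : IsPGroup p S) {F : FusionSystem S}
    (hF : F.IsSaturated p) {Q : Subgroup Ω} (hQ : F.IsNormal Q) :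
    (innerFusionSystem Q).IsNormalIn F p := by
  have hQS : Q ≤ S := hQ.1
  have hfQ : Finite Q := H802.finite_of_le hQS
  have hQp : IsPGroup p Q := hS.to_le hQS
  have hsc := H759.IsNormal.stronglyClosed hQ
  have hsub : (innerFusionSystem Q).IsSubsystemOf F := by
    rintro P φ ⟨hP, g, hg, h⟩
    exact H802.mem_of_apply_eq (F.conj_mem (hP.trans hQS) (hQS hg)) h
  rw [isNormalIn_iff hQS]
  refine ⟨H802.innerFusionSystem_isSaturated hQp, hF, isInvariantIn_iff.2 ⟨hsub, hsc, ?_, ?_⟩, ?_⟩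
  · intro P R f a h hf ha hR
    obtain ⟨hPQ, g, hg, hfg⟩ := mp_inner_iff.1 hf
    have hag : a g ∈ Q := mp_mem_of_stronglyClosed hsc ha hg hg
    refine mp_inner_iff.2 ⟨fun y hy => ?_, a g, hag, fun y hy => ?_⟩
    · obtain ⟨x, hx, hxy, -⟩ := hR y hy
      rw [← hxy]
      exact mp_mem_of_stronglyClosed hsc ha (hPQ hx) (hPQ hx)
    · obtain ⟨x, hx, hxy, hh⟩ := hR y hy
      rw [hh, hfg x hx, ha.mul (mul_mem hg (hPQ hx)) (Subgroup.inv_mem _ hg), ha.mul hg (hPQ hx),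
        ha.inv hg, hxy]
  · intro P f hP hf
    obtain ⟨φ, hφ, hφf⟩ := hf
    obtain ⟨ψ, hψ, h1, h2⟩ := hQ.2 P φ hφ
    have h3 : P ⊔ Q = Q := sup_eq_right.2 hP
    refine ⟨ex ψ, (mp_ex hψ).res le_sup_right, fun x => x, mp_id _ hP, fun x hx => ?_⟩
    rw [ex_apply _ ((le_sup_left : P ≤ P ⊔ Q) hx), ← hφf x hx]
    exact (h1 ⟨x, hx⟩).symm
  · intro a ha
    obtain ⟨-, g, hg, h⟩ := mp_inner_iff.1 ha
    exact (ExtC.conj hQS hg).congr h

/-- The hyperfocal subgroup of the inner system of a `p`-group is trivial. -/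
theorem hyperfocal_inner [Fact p.Prime] {T : Subgroup Ω} [Finite T] (hT : IsPGroup p T) :
    (innerFusionSystem T).hyperfocalSubgroup p = ⊥ := by
  rw [eq_bot_iff]
  refine H747.hyperfocal_le fun P hP α hα hc x => ?_
  obtain ⟨-, g, hg, h⟩ := (H802.mem_autGroup_iff _ hP α).1 hα
  have h1 : ∀ x : P, ((α x : P) : Ω) = g * x * g⁻¹ := h
  -- some `p`-power of `g` is trivial
  obtain ⟨k, hk⟩ := hT ⟨g, hg⟩
  have hk' : g ^ p ^ k = 1 := congrArg Subtype.val hk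
  have h2 : ∀ n : ℕ, ∀ x : P, (((α ^ n) x : P) : Ω) = g ^ n * x * (g ^ n)⁻¹ := by
    intro n
    induction n with
    | zero => intro x; simp
    | succ n ih =>
      intro x
      have h3 : (α ^ (n + 1)) x = α ((α ^ n) x) := by rw [pow_succ']; rfl
      rw [h3, h1, ih, pow_succ']
      group
  have h4 : α ^ p ^ k = 1 := by
    apply MulEquiv.ext
    intro x
    apply Subtype.ext
    rw [h2, hk']
    simp
  have h5 : orderOf α ∣ p ^ k := orderOf_dvd_of_pow_eq_one h4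
  have h6 : orderOf α = 1 := Nat.eq_one_of_dvd_coprimes (Nat.Coprime.pow_right k hc) dvd_rfl h5
  rw [orderOf_eq_one_iff] at h6
  rw [h6, Subgroup.mem_bot]
  simp

section Factor

variable {Ω' : Type*} [Group Ω'] {S' : Subgroup Ω'} {θ : S →* Ω'} {F : FusionSystem S}
  {E : FusionSystem S'} {S₀ : Subgroup Ω}

/-- The image of a normal subgroup in a factor system is normal. -/
theorem isNormal_image (hS₀ : F.StronglyClosed S₀) (hE : F.IsFactorSystem S₀ θ E) {Q : Subgroup Ω}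
    (hQ : F.IsNormal Q) : E.IsNormal (imageAlong θ Q) := by
  have hsc := H759.stronglyClosed_image hE (H759.IsNormal.stronglyClosed hQ)
  refine ⟨hsc.1, fun P' φ' hφ' => ?_⟩
  have hP' : P' ≤ S' := (E.le_of_mem hφ').1
  obtain ⟨φ, hφ, hφe⟩ := H759.exists_map_of_factor hE hφ'
  obtain ⟨ψ, hψ, h1, h2⟩ := hQ.2 _ φ hφ
  have hsup : P' ⊔ imageAlong θ Q ≤ S' := sup_le hP' hsc.1
  have hAS : preimageAlong θ P' ⊔ Q ≤ S := sup_le H759.preimageAlong_le hQ.1
  have hS₀A : S₀ ≤ preimageAlong θ P' ⊔ Q :=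
    (H759.le_preimageAlong hE.1 hE.2.1).trans le_sup_left
  have himg : P' ⊔ imageAlong θ Q ≤ ((preimageAlong θ P' ⊔ Q).subgroupOf S).map θ := by
    refine sup_le (fun y hy => ?_) (fun y hy => ?_)
    · obtain ⟨x, hx, hxp, hxy⟩ := H759.exists_preimage_of_mem hE hP' hy
      exact ⟨⟨x, hx⟩, (le_sup_left : _ ≤ preimageAlong θ P' ⊔ Q) hxp, hxy⟩
    · obtain ⟨x, hx, hxQ, hxy⟩ := H759.mem_imageAlong.1 hy
      exact ⟨⟨x, hx⟩, (le_sup_right : Q ≤ preimageAlong θ P' ⊔ Q) hxQ, hxy⟩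
  have hpre : preimageAlong θ (P' ⊔ imageAlong θ Q) ≤ preimageAlong θ P' ⊔ Q := by
    intro x hx
    obtain ⟨hxS, hx'⟩ := H759.mem_preimageAlong.1 hx
    obtain ⟨y, hy, hyx⟩ := himg hx'
    have h3 := (H759.theta_eq_iff hE).1 hyx
    have h4 : x = (y : Ω) * ((y : Ω)⁻¹ * x) := by group
    rw [h4]
    exact mul_mem hy (hS₀A h3)
  obtain ⟨ψ', hψ', hψe⟩ := H759.exists_factor_map hS₀ hE hψ hsup hpre
  have hQimg : ∀ (q : Ω) (hq : q ∈ Q) (hq' : θ ⟨q, hQ.1 hq⟩ ∈ P' ⊔ imageAlong θ Q)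
      (hy : ψ ⟨q, (le_sup_right : Q ≤ _) hq⟩ ∈ S),
      ψ' ⟨θ ⟨q, hQ.1 hq⟩, hq'⟩ = θ ⟨ψ ⟨q, (le_sup_right : Q ≤ _) hq⟩, hy⟩ :=
    fun q hq hq' hy => hψe q _ _ hq' hy
  refine ⟨ψ', hψ', fun y => ?_, ?_⟩
  · obtain ⟨x, hx, hxp, hxy⟩ := H759.exists_preimage_of_mem hE hP' y.2
    have hφS : φ ⟨x, hxp⟩ ∈ S := (F.le_of_mem hφ).2 _
    have e1 := hφe x hxp hx (by rw [hxy]; exact y.2) hφS
    have hxA : x ∈ preimageAlong θ P' ⊔ Q := (le_sup_left : _ ≤ preimageAlong θ P' ⊔ Q) hxp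
    have hψS : ψ ⟨x, hxA⟩ ∈ S := (F.le_of_mem hψ).2 _
    have e2 := hψe x hxA hx ((le_sup_left : P' ≤ _) (by rw [hxy]; exact y.2)) hψS
    have e3 : ψ ⟨x, hxA⟩ = φ ⟨x, hxp⟩ := h1 ⟨x, hxp⟩
    have e4 : (⟨θ ⟨x, hx⟩, by rw [hxy]; exact y.2⟩ : P') = y := Subtype.ext hxy
    have e5 : (⟨θ ⟨x, hx⟩, (le_sup_left : P' ≤ _) (by rw [hxy]; exact y.2)⟩ :
        ↥(P' ⊔ imageAlong θ Q)) = Subgroup.inclusion le_sup_left y := Subtype.ext hxy
    rw [e4] at e1
    rw [e5] at e2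
    rw [e1, e2]
    congr 1
    exact Subtype.ext e3
  · ext y
    constructor
    · rintro ⟨z, hz, rfl⟩
      obtain ⟨q, hqS, hq, hqz⟩ := H759.mem_imageAlong.1 hz
      have hψS : ψ ⟨q, (le_sup_right : Q ≤ _) hq⟩ ∈ S := (F.le_of_mem hψ).2 _
      have e1 := hQimg q hq (by rw [hqz]; exact z.2) hψS
      have e2 : (⟨θ ⟨q, hQ.1 hq⟩, by rw [hqz]; exact z.2⟩ : ↥(P' ⊔ imageAlong θ Q)) = z :=
        Subtype.ext hqz
      rw [e2] at e1
      rw [e1]
      refine H759.mem_imageAlong.2 ⟨_, hψS, ?_, rfl⟩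
      exact h2.le ⟨⟨q, (le_sup_right : Q ≤ preimageAlong θ P' ⊔ Q) hq⟩, hq, rfl⟩
    · intro hy
      obtain ⟨q, hqS, hq, rfl⟩ := H759.mem_imageAlong.1 hy
      obtain ⟨q₁, hq₁, rfl⟩ := h2.ge hq
      have hq₁Q : (q₁ : Ω) ∈ Q := hq₁
      have hmem : θ ⟨q₁, hQ.1 hq₁Q⟩ ∈ imageAlong θ Q :=
        H759.mem_imageAlong.2 ⟨_, hQ.1 hq₁Q, hq₁Q, rfl⟩
      exact ⟨⟨θ ⟨q₁, hQ.1 hq₁Q⟩, (le_sup_right : imageAlong θ Q ≤ _) hmem⟩, hmem,
        hQimg q₁ hq₁Q _ hqS⟩

end Factor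

/-- **Normal subgroups of quasisimple systems are central.** -/
theorem le_center_of_quasisimple [Fact p.Prime] [Finite S] (hS : IsPGroup p S)
    {C : FusionSystem S} (hC : C.Quasisimple p) {Q : Subgroup Ω} (hQ : C.IsNormal Q) :
    Q ≤ C.center := by
  obtain ⟨hCs, hhyp, hfac⟩ := hC
  have hcle : C.center ≤ S := H757.center_le C
  have hsc : C.StronglyClosed C.center := H757.stronglyClosed_center C
  set N : Subgroup S := C.center.subgroupOf S with hN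
  have hker : ∀ s : S, QuotientGroup.mk' N s = 1 ↔ (s : Ω) ∈ C.center := by
    intro s
    rw [← MonoidHom.mem_ker, QuotientGroup.ker_mk', hN, Subgroup.mem_subgroupOf]
  have hrange : (QuotientGroup.mk' N).range = ⊤ :=
    MonoidHom.range_eq_top.2 (QuotientGroup.mk'_surjective N)
  obtain ⟨E, hE⟩ := H759.exists_factorSystem hsc hker hrange
  obtain ⟨hEs, hEne, hsimp⟩ := hfac E hE
  have hfin : Finite (⊤ : Subgroup (S ⧸ N)) := inferInstance
  have hEp : IsPGroup p (⊤ : Subgroup (S ⧸ N)) := by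
    have h1 : IsPGroup p (S ⧸ N) := hS.of_surjective (QuotientGroup.mk' N) (QuotientGroup.mk'_surjective N)
    exact h1.to_subgroup ⊤
  have hQn := isNormal_image hsc hE hQ
  have hin := inner_isNormalIn hEp hEs hQn
  rcases hsimp _ _ hin with h1 | ⟨h1, h2⟩
  · intro q hq
    have hqS := hQ.1 hq
    have h3 : QuotientGroup.mk' N ⟨q, hqS⟩ ∈ imageAlong (QuotientGroup.mk' N) Q :=
      H759.mem_imageAlong.2 ⟨q, hqS, hq, rfl⟩
    rw [h1, Subgroup.mem_bot] at h3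
    exact (hker _).1 h3
  · exfalso
    have h3 : E.hyperfocalSubgroup p = ⊤ := by
      rw [H803.hyperfocal_factor hS hCs hsc hE, hhyp, Subgroup.subgroupOf_self,
        ← MonoidHom.range_eq_map, hrange]
    have h4 : E.hyperfocalSubgroup p ≤ ⊥ := by
      refine H747.hyperfocal_le fun P hP α hα hc x => ?_
      have h5 : α ∈ (innerFusionSystem (⊤ : Subgroup (S ⧸ N))).autGroup P := by
        rw [H802.mem_autGroup_iff _ hP]
        have h6 := (H802.mem_autGroup_iff E hP α).1 hα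
        rw [← h2 P] at h6
        have h7 : innerFusionSystem (imageAlong (QuotientGroup.mk' N) Q) =
            innerFusionSystem (imageAlong (QuotientGroup.mk' N) Q) := rfl
        obtain ⟨-, g, hg, h⟩ := h6
        exact ⟨hP, g, Subgroup.mem_top g, h⟩
      have h8 := H747.hyperfocal_mem_of_coprime (F := innerFusionSystem (⊤ : Subgroup (S ⧸ N)))
        (p := p) hP h5 hc x
      rw [hyperfocal_inner hEp] at h8
      exact h8
    exact hEne (le_bot_iff.1 (h3 ▸ h4))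

/-- The centre of a quasisimple system is a proper subgroup. -/
theorem quasisimple_ne_bot [Fact p.Prime] [Finite S] {C : FusionSystem S} (hC : C.Quasisimple p) :
    C.center ≠ S := by
  obtain ⟨hCs, hhyp, hfac⟩ := hC
  have hsc : C.StronglyClosed C.center := H757.stronglyClosed_center C
  set N : Subgroup S := C.center.subgroupOf S with hN
  have hker : ∀ s : S, QuotientGroup.mk' N s = 1 ↔ (s : Ω) ∈ C.center := by
    intro s
    rw [← MonoidHom.mem_ker, QuotientGroup.ker_mk', hN, Subgroup.mem_subgroupOf]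
  have hrange : (QuotientGroup.mk' N).range = ⊤ :=
    MonoidHom.range_eq_top.2 (QuotientGroup.mk'_surjective N)
  obtain ⟨E, hE⟩ := H759.exists_factorSystem hsc hker hrange
  obtain ⟨hEs, hEne, hsimp⟩ := hfac E hE
  intro h
  refine hEne ?_
  rw [eq_bot_iff]
  rintro y -
  obtain ⟨s, rfl⟩ := QuotientGroup.mk'_surjective N y
  rw [Subgroup.mem_bot, hker, h]
  exact s.2

end Cfsg.Agent.H758
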